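import Cfsg.Agent.H94.S460.Base
import Cfsg.Agent.H94.S460.J.Pres

/-!
# Words for generators of a subgroup J1 of the presented O'Nan group, and certificates (helper94; generated)

The five involutions `img x` satisfy the relations of the presentation `j3_rws`; the lists below
are Sylow subgroups (as words in the five involutions) together with products of conjugates
of each of their elements that give the involution `e1`.  The checks are split into parts to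
bound the memory used by the kernel.
-/

set_option autoImplicit false
set_option maxRecDepth 1000000
set_option Elab.async false

namespace Cfsg.Agent.H94.S460.J

open Cfsg.Agent.H35 Cfsg.Spor

/-- the generators, as words in the generators of the O'Nan group -/
def img : OnL → List OnL
  | .a => [.g, .g, .c, .b, .g, .c, .e, .d, .g, .a, .v, .d, .e, .c, .v, .b, .c, .v, .v, .b, .d, .e, .c, .b, .d, .c, .d, .v, .b, .c, .b, .a, .c, .b, .g, .d, .c, .d, .b, .c, .e, .d, .b, .g, .g, .c, .b, .g, .c, .e, .d, .g, .a, .v, .d, .e, .c, .v, .b, .c, .v, .v, .b, .d, .e, .c, .b, .d, .c, .d, .v, .b, .c, .a, .b, .c, .b, .g, .d, .c, .d, .b, .c, .e, .d, .b, .g, .g, .c, .b, .g, .c, .e, .d, .g, .a, .v, .d, .e, .c, .v, .b, .c, .v, .v, .b, .d, .e, .c, .b, .d, .c, .d, .v, .b, .c, .b, .a, .c, .b, .g, .d, .c, .d, .b, .c, .e, .d, .b, .g, .g, .c, .b, .g, .c, .e, .d, .g, .a, .v, .d, .e, .c,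 .v, .b, .c, .v, .v, .b, .d, .e, .c, .b, .d, .c, .d, .v, .b, .c, .b, .a, .c, .b, .g, .d, .c, .d, .b, .c, .e, .d, .b, .g, .g, .c, .b, .g, .c, .e, .d, .g, .a, .v, .d, .e, .c, .v, .b, .c, .v, .v, .b, .d, .e, .c, .b, .d, .c, .d, .v, .b, .c, .a, .b, .c, .b, .g, .d, .c, .d, .b, .c, .e, .d, .b, .g, .g, .c, .b, .g, .c, .e, .d, .g, .a, .v, .d, .e, .c, .v, .b, .c, .v, .v, .b, .d, .e, .c, .b, .d, .c, .d, .v, .b, .c, .a, .b, .c, .b, .g, .d, .c, .d, .b, .c, .e, .d, .b, .g, .g, .c, .b, .g, .c, .e, .d, .g, .a, .v, .d, .e, .c, .v, .b, .c, .v, .v, .b, .d, .e, .c, .b, .d, .c, .d, .v, .b, .c, .b, .a, .c, .b, .g, .d, .c, .d, .b, .c, .e, .d, .b, .g, .g, .c, .b, .g, .c, .e, .d, .g, .a, .v, .d, .e, .c, .v, .b, .c, .v, .v, .b, .d, .e, .c, .b, .d, .c, .d, .v, .b, .c, .a, .b, .c, .b, .g, .d, .c, .d, .b, .c, .e, .d, .b, .g, .g, .c, .b, .g, .c, .e, .d, .g, .a, .v, .d, .e, .c, .v, .b, .c,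 .v, .v, .b, .d, .e, .c, .b, .d, .c, .d, .v, .b, .c, .b, .a, .c, .b, .g, .d, .c, .d, .b, .c, .e, .d, .b, .g, .g, .c, .b, .g, .c, .e, .d, .g, .a, .v, .d, .e, .c, .v, .b, .c, .v, .v, .b, .d, .e, .c, .b, .d, .c, .d, .v, .b, .c, .b, .a, .c, .b, .g, .d, .c, .d, .b, .c, .e, .d, .b, .g, .g, .c, .b, .g, .c, .e, .d, .g, .a, .v, .d, .e, .c, .v, .b, .c, .v, .v, .b, .d, .e, .c, .b, .d, .c, .d, .v, .b, .c, .a, .b, .c, .b, .g, .d, .c, .d, .b, .c, .e, .d, .b, .g, .g, .c, .b, .g, .c, .e, .d, .g, .a, .v, .d, .e, .c, .v, .b, .c, .v, .v, .b, .d, .e, .c, .b, .d, .c, .d, .v, .b, .c, .a, .b, .c, .b, .g, .d, .c, .d, .b, .c, .e, .d, .b, .g, .g, .c, .b, .g, .c, .e, .d, .g, .a, .v, .d, .e, .c, .v, .b, .c, .v, .v, .b, .d, .e, .c, .b, .d, .c, .d, .v, .b, .c, .b, .a, .c, .b, .g, .d, .c, .d, .b, .c, .e, .d, .b, .g, .g, .c, .b, .g, .c, .e, .d, .g, .a, .v, .d, .e, .c, .v, .b, .c, .v, .v, .b,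 .d, .e, .c, .b, .d, .c, .d, .v, .b, .c, .a, .b, .c, .b, .g, .d, .c, .d, .b, .c, .e, .d, .b, .g, .g, .c, .b, .g, .c, .e, .d, .g, .a, .v, .d, .e, .c, .v, .b, .c, .v, .v]
  | .b => [.b, .d, .e, .c, .b, .d, .c, .d, .v, .b, .c, .a, .b, .c, .b, .g, .d, .c, .d, .b, .c, .e, .d, .b, .g, .g, .c, .b, .g, .c, .e, .d, .g, .a, .v, .d, .e, .c, .v, .b, .c, .v, .v, .b, .d, .e, .c, .b, .d, .c, .d, .v, .b, .c, .a, .b, .c, .b, .g, .d, .c, .d, .b, .c, .e, .d, .b, .g, .g, .c, .b, .g, .c, .e, .d, .g, .a, .v, .d, .e, .c, .v, .b, .c, .v, .v, .b, .d, .e, .c, .b, .d, .c, .d, .v, .b, .c, .b, .a, .c, .b, .g, .d, .c, .d, .b, .c, .e, .d, .b, .g, .g, .c, .b, .g, .c, .e, .d, .g, .a, .v, .d, .e, .c, .v, .b, .c, .v, .v, .b, .d, .e, .c, .b, .d, .c, .d, .v, .b, .c, .b, .a, .c, .b, .g, .d, .c, .d, .b, .c, .e, .d, .b, .g, .g, .c, .b, .g, .c, .e, .d, .g, .a, .v, .d, .e, .c, .v, .b, .c, .v, .v, .b, .d,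 .e, .c, .b, .d, .c, .d, .v, .b, .c, .a, .b, .c, .b, .g, .d, .c, .d, .b, .c, .e, .d, .b, .g, .g, .c, .b, .g, .c, .e, .d, .g, .a, .v, .d, .e, .c, .v, .b, .c, .v, .v, .b, .d, .e, .c, .b, .d, .c, .d, .v, .b, .c, .b, .a, .c, .b, .g, .d, .c, .d, .b, .c, .e, .d, .b, .g, .g, .c, .b, .g, .c, .e, .d, .g, .a, .v, .d, .e, .c, .v, .b, .c, .v, .v, .b, .d, .e, .c, .b, .d, .c, .d, .v, .b, .c, .b, .a, .c, .b, .g, .d, .c, .d, .b, .c, .e, .d, .b, .g, .g, .c, .b, .g, .c, .e, .d, .g, .a, .v, .d, .e, .c, .v, .b, .c, .v, .v, .b, .d, .e, .c, .b, .d, .c, .d, .v, .b, .c, .a, .b, .c, .b, .g, .d, .c, .d, .b, .c, .e, .d, .b, .g, .g, .c, .b, .g, .c, .e, .d, .g, .a, .v, .d, .e, .c, .v, .b, .c, .v, .v, .b, .d, .e, .c, .b, .d, .c, .d, .v, .b, .c, .b, .a, .c, .b, .g, .d, .c, .d, .b, .c, .e, .d, .b, .g, .g, .c, .b, .g, .c, .e, .d, .g, .a, .v, .d, .e, .c, .v, .b, .c, .v, .v, .b, .d, .e, .c, .b,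 .d, .c, .d, .v, .b, .c, .a, .b, .c, .b, .g, .d, .c, .d, .b, .c, .e, .d, .b, .g, .g, .c, .b, .g, .c, .e, .d, .g, .a, .v, .d, .e, .c, .v, .b, .c, .v, .v, .b, .d, .e, .c, .b, .d, .c, .d, .v, .b, .c, .a, .b, .c, .b, .g, .d, .c, .d, .b, .c, .e, .d, .b, .g, .g, .c, .b, .g, .c, .e, .d, .g, .a, .v, .d, .e, .c, .v, .b, .c, .v, .v, .b, .d, .e, .c, .b, .d, .c, .d, .v, .b, .c, .b, .a, .c, .b, .g, .d, .c, .d, .b, .c, .e, .d, .b, .g, .g, .c, .b, .g, .c, .e, .d, .g, .a, .v, .d, .e, .c, .v, .b, .c, .v, .v, .b, .d, .e, .c, .b, .d, .c, .d, .v, .b, .c, .b, .a, .c, .b, .g, .d, .c, .d, .b, .c, .e, .d, .b, .g, .g, .c, .b, .g, .c, .e, .d, .g, .a, .v, .d, .e, .c, .v, .b, .c, .v, .v, .b, .d, .e, .c, .b, .d, .c, .d, .v, .b, .c, .a, .b, .c, .b, .g, .d, .c, .d, .b, .c, .e, .d, .b, .g, .g, .c, .b, .g, .c, .e, .d, .g, .a, .v, .d, .e, .c, .v, .b, .c, .v, .v, .b, .d, .e, .c, .b, .d, .c, .d,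 .v, .b, .c, .b, .a, .c, .b, .g, .d, .c, .d, .b, .c, .e, .d, .b, .g, .g, .c, .b, .g, .c, .e, .d, .g, .a, .v, .d, .e, .c, .v, .b, .c, .v, .v, .b, .d, .e, .c, .b, .d, .c, .d, .v, .b, .c, .b, .a, .c, .b, .g, .d, .c, .d, .b, .c, .e, .d, .b, .g, .g, .c, .b, .g, .c, .e, .d, .g, .a, .v, .d, .e, .c, .v, .b, .c, .v, .v, .b, .d, .e, .c, .b, .d, .c, .d, .v, .b, .c, .a, .b, .c, .b, .g, .d, .c, .d, .b, .c, .e, .d, .b, .g, .g, .c, .b, .g, .c, .e, .d, .g, .a, .v, .d, .e, .c, .v, .b, .c, .v, .v, .b, .d, .e, .c, .b, .d, .c, .d, .v, .b, .c, .b, .a, .c, .b, .g, .d, .c, .d, .b, .c, .e, .d, .b]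
  | .c => [.b, .d, .e, .c, .b, .d, .c, .d, .v, .b, .c, .a, .b, .c, .b, .g, .d, .c, .d, .b, .c, .e, .d, .b, .g, .g, .c, .b, .g, .c, .e, .d, .g, .a, .v, .d, .e, .c, .v, .b, .c, .v, .v, .b, .d, .e, .c, .b, .d, .c, .d, .v, .b, .c, .a, .b, .c, .b, .g, .d, .c, .d, .b, .c, .e, .d, .b, .g, .g, .c, .b, .g, .c, .e, .d, .g, .a, .v, .d, .e, .c, .v, .b, .c, .v, .v, .b, .d, .e, .c, .b, .d, .c, .d, .v, .b, .c, .b, .a, .c, .b, .g, .d, .c, .d, .b, .c, .e, .d, .b, .g, .g, .c, .b, .g, .c, .e, .d, .g, .a, .v, .d, .e, .c, .v, .b, .c, .v, .v, .b, .d, .e, .c, .b, .d, .c, .d, .v, .b, .c, .a, .b, .c, .b, .g, .d, .c, .d, .b, .c, .e, .d, .b, .g, .g, .c, .b, .g, .c, .e, .d, .g, .a, .v, .d, .e, .c, .v, .b, .c, .v, .v, .b, .d, .e, .c, .b, .d, .c, .d, .v, .b, .c, .b, .a, .c, .b, .g, .d, .c, .d, .b, .c, .e, .d, .b, .g, .g, .c, .b, .g, .c, .e, .d, .g, .a, .v, .d, .e, .c, .v, .b, .c, .v, .v, .b,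 .d, .e, .c, .b, .d, .c, .d, .v, .b, .c, .a, .b, .c, .b, .g, .d, .c, .d, .b, .c, .e, .d, .b, .g, .g, .c, .b, .g, .c, .e, .d, .g, .a, .v, .d, .e, .c, .v, .b, .c, .v, .v, .b, .d, .e, .c, .b, .d, .c, .d, .v, .b, .c, .b, .a, .c, .b, .g, .d, .c, .d, .b, .c, .e, .d, .b, .g, .g, .c, .b, .g, .c, .e, .d, .g, .a, .v, .d, .e, .c, .v, .b, .c, .v, .v, .b, .d, .e, .c, .b, .d, .c, .d, .v, .b, .c, .b, .a, .c, .b, .g, .d, .c, .d, .b, .c, .e, .d, .b, .g, .g, .c, .b, .g, .c, .e, .d, .g, .a, .v, .d, .e, .c, .v, .b, .c, .v, .v, .b, .d, .e, .c, .b, .d, .c, .d, .v, .b, .c, .a, .b, .c, .b, .g, .d, .c, .d, .b, .c, .e, .d, .b, .g, .g, .c, .b, .g, .c, .e, .d, .g, .a, .v, .d, .e, .c, .v, .b, .c, .v, .v, .b, .d, .e, .c, .b, .d, .c, .d, .v, .b, .c, .a, .b, .c, .b, .g, .d, .c, .d, .b, .c, .e, .d, .b, .g, .g, .c, .b, .g, .c, .e, .d, .g, .a, .v, .d, .e, .c, .v, .b, .c, .v, .v, .b, .d, .e, .c,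 .b, .d, .c, .d, .v, .b, .c, .b, .a, .c, .b, .g, .d, .c, .d, .b, .c, .e, .d, .b, .g, .g, .c, .b, .g, .c, .e, .d, .g, .a, .v, .d, .e, .c, .v, .b, .c, .v, .v, .b, .d, .e, .c, .b, .d, .c, .d, .v, .b, .c, .a, .b, .c, .b, .g, .d, .c, .d, .b, .c, .e, .d, .b, .g, .g, .c, .b, .g, .c, .e, .d, .g, .a, .v, .d, .e, .c, .v, .b, .c, .v, .v, .b, .d, .e, .c, .b, .d, .c, .d, .v, .b, .c, .b, .a, .c, .b, .g, .d, .c, .d, .b, .c, .e, .d, .b, .g, .g, .c, .b, .g, .c, .e, .d, .g, .a, .v, .d, .e, .c, .v, .b, .c, .v, .v, .b, .d, .e, .c, .b, .d, .c, .d, .v, .b, .c, .a, .b, .c, .b, .g, .d, .c, .d, .b, .c, .e, .d, .b, .g, .g, .c, .b, .g, .c, .e, .d, .g, .a, .v, .d, .e, .c, .v, .b, .c, .v, .v, .b, .d, .e, .c, .b, .d, .c, .d, .v, .b, .c, .b, .a, .c, .b, .g, .d, .c, .d, .b, .c, .e, .d, .b, .g, .g, .c, .b, .g, .c, .e, .d, .g, .a, .v, .d, .e, .c, .v, .b, .c, .v, .v, .b, .d, .e, .c, .b, .d, .c,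 .d, .v, .b, .c, .b, .a, .c, .b, .g, .d, .c, .d, .b, .c, .e, .d, .b]
  | .d => [.g, .g, .c, .b, .g, .c, .e, .d, .g, .a, .v, .d, .e, .c, .v, .b, .c, .v, .v, .b, .d, .e, .c, .b, .d, .c, .d, .v, .b, .c, .a, .b, .c, .b, .g, .d, .c, .d, .b, .c, .e, .d, .b, .g, .g, .c, .b, .g, .c, .e, .d, .g, .a, .v, .d, .e, .c, .v, .b, .c, .v, .v, .b, .d, .e, .c, .b, .d, .c, .d, .v, .b, .c, .a, .b, .c, .b, .g, .d, .c, .d, .b, .c, .e, .d, .b, .g, .g, .c, .b, .g, .c, .e, .d, .g, .a, .v, .d, .e, .c, .v, .b, .c, .v, .v, .b, .d, .e, .c, .b, .d, .c, .d, .v, .b, .c, .b, .a, .c, .b, .g, .d, .c, .d, .b, .c, .e, .d, .b, .g, .g, .c, .b, .g, .c, .e, .d, .g, .a, .v, .d, .e, .c, .v, .b, .c, .v, .v, .b, .d, .e, .c, .b, .d, .c, .d, .v, .b, .c, .b, .a, .c, .b, .g, .d, .c, .d, .b, .c, .e, .d, .b, .g, .g, .c, .b, .g, .c, .e, .d, .g, .a, .v, .d, .e, .c, .v, .b, .c, .v, .v, .b, .d, .e, .c, .b, .d, .c, .d,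 .v, .b, .c, .a, .b, .c, .b, .g, .d, .c, .d, .b, .c, .e, .d, .b, .g, .g, .c, .b, .g, .c, .e, .d, .g, .a, .v, .d, .e, .c, .v, .b, .c, .v, .v, .b, .d, .e, .c, .b, .d, .c, .d, .v, .b, .c, .b, .a, .c, .b, .g, .d, .c, .d, .b, .c, .e, .d, .b, .g, .g, .c, .b, .g, .c, .e, .d, .g, .a, .v, .d, .e, .c, .v, .b, .c, .v, .v, .b, .d, .e, .c, .b, .d, .c, .d, .v, .b, .c, .b, .a, .c, .b, .g, .d, .c, .d, .b, .c, .e, .d, .b, .g, .g, .c, .b, .g, .c, .e, .d, .g, .a, .v, .d, .e, .c, .v, .b, .c, .v, .v, .b, .d, .e, .c, .b, .d, .c, .d, .v, .b, .c, .a, .b, .c, .b, .g, .d, .c, .d, .b, .c, .e, .d, .b, .g, .g, .c, .b, .g, .c, .e, .d, .g, .a, .v, .d, .e, .c, .v, .b, .c, .v, .v, .b, .d, .e, .c, .b, .d, .c, .d, .v, .b, .c, .b, .a, .c, .b, .g, .d, .c, .d, .b, .c, .e, .d, .b, .g, .g, .c, .b, .g, .c, .e, .d, .g, .a, .v, .d, .e, .c, .v, .b, .c, .v, .v]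
  | .e => [.b, .d, .e, .c, .b, .d, .c, .d, .v, .b, .c, .b, .a, .c, .b, .g, .d, .c, .d, .b, .c, .e, .d, .b, .g, .g, .c, .b, .g, .c, .e, .d, .g, .a, .v, .d, .e, .c, .v, .b, .c, .v, .v, .b, .d, .e, .c, .b, .d, .c, .d, .v, .b, .c, .b, .a, .c, .b, .g, .d, .c, .d, .b, .c, .e, .d, .b, .g, .g, .c, .b, .g, .c, .e, .d, .g, .a, .v, .d, .e, .c, .v, .b, .c, .v, .v, .b, .d, .e, .c, .b, .d, .c, .d, .v, .b, .c, .a, .b, .c, .b, .g, .d, .c, .d, .b, .c, .e, .d, .b, .g, .g, .c, .b, .g, .c, .e, .d, .g, .a, .v, .d, .e, .c, .v, .b, .c, .v, .v, .b, .d, .e, .c, .b, .d, .c, .d, .v, .b, .c, .b, .a, .c, .b, .g, .d, .c, .d, .b, .c, .e, .d, .b, .g, .g, .c, .b, .g, .c, .e, .d, .g, .a, .v, .d, .e, .c, .v, .b, .c, .v, .v, .b, .d, .e, .c, .b, .d, .c, .d, .v, .b, .c, .a, .b, .c, .b, .g, .d, .c, .d, .b, .c, .e, .d, .b, .g, .g, .c, .b, .g, .c, .e, .d, .g, .a, .v, .d, .e, .c, .v, .b, .c, .v, .v, .b,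 .d, .e, .c, .b, .d, .c, .d, .v, .b, .c, .a, .b, .c, .b, .g, .d, .c, .d, .b, .c, .e, .d, .b]
  | _ => []

def e1 : List OnL := [.a]

def baseCs : OnL → List OnL
  | .a => []
  | .b => [.b, .a]
  | .c => [.b, .a, .c, .b, .c, .b]
  | .d => [.b, .a, .c, .b, .c, .b, .d, .c]
  | .e => [.b, .a, .c, .b, .c, .b, .d, .c, .e, .d, .e, .d]
  | _ => []

theorem inv_ok : on_gens.all (fun x => eqK img [x, x] []) = true := by decide +kernel

def rel_ok_c0 : List (List OnL × List OnL) := [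
  ([.a, .b, .a], [.b, .a, .b]),
  ([.b, .c, .b, .c, .b], [.c, .b, .c, .b, .c]),
  ([.c, .d, .c], [.d, .c, .d]),
  ([.d, .e, .d, .e, .d], [.e, .d, .e, .d, .e]),
  ([.a, .c], [.c, .a]),
  ([.a, .d], [.d, .a]),
  ([.a, .e], [.e, .a]),
  ([.b, .d], [.d, .b]),
  ([.b, .e], [.e, .b])]
theorem rel_ok_c0_ok : rel_ok_c0.all (fun r => eqK img (r.1 ++ r.2.reverse) []) = true := by decide +kernel
def rel_ok_c1 : List (List OnL × List OnL) := [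
  ([.c, .e], [.e, .c]),
  ([.c, .d, .e, .c, .d, .e, .c, .d, .e, .c, .d, .e, .c, .d, .e], [.a]),
  ([.a, .b, .c, .a, .b, .c, .a, .b, .c, .a, .b, .c, .a, .b, .c], []),
  ([.g], []),
  ([.f], []),
  ([.v], [])]
theorem rel_ok_c1_ok : rel_ok_c1.all (fun r => eqK img (r.1 ++ r.2.reverse) []) = true := by decide +kernel
theorem rel_ok : (j3_rws).all (fun r => eqK img (r.1 ++ r.2.reverse) []) = true :=
  all_append_true _ _ _ rel_ok_c0_ok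
    (rel_ok_c1_ok)

def base_ok_c0 : List (OnL) := [
  .g,
  .a,
  .b,
  .c,
  .d]
theorem base_ok_c0_ok : base_ok_c0.all (fun x => (img x).isEmpty || eqK img (conjW e1 [baseCs x]) [x]) = true := by decide +kernel
def base_ok_c1 : List (OnL) := [
  .e,
  .f,
  .v]
theorem base_ok_c1_ok : base_ok_c1.all (fun x => (img x).isEmpty || eqK img (conjW e1 [baseCs x]) [x]) = true := by decide +kernel
theorem base_ok : (on_gens).all (fun x => (img x).isEmpty || eqK img (conjW e1 [baseCs x]) [x]) = true :=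
  all_append_true _ _ _ base_ok_c0_ok
    (base_ok_c1_ok)

def g3 : List OnL := [.a, .b]
def cs3 : List (List OnL) := [[.b, .c, .b], [.a, .c, .b, .c, .b, .c, .b]]
theorem g3_pow : eqK img (List.replicate 3 g3).flatten [] = true := by decide +kernel
theorem g3_ne : eqK img g3 [] = false := by decide +kernel
theorem g3_ncl : eqK img (conjW g3 cs3) e1 = true := by decide +kernel

def g5 : List OnL := [.b, .c]
def cs5 : List (List OnL) := [[.a, .b, .c, .d, .c, .a, .b, .c, .a, .b], [.a, .b, .c, .b, .c, .d, .a, .b, .c, .d, .c, .a, .b, .c, .a, .b]]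
theorem g5_pow : eqK img (List.replicate 5 g5).flatten [] = true := by decide +kernel
theorem g5_ne : eqK img g5 [] = false := by decide +kernel
theorem g5_ncl : eqK img (conjW g5 cs5) e1 = true := by decide +kernel

def g7 : List OnL := [.a, .b, .a, .c, .b, .c, .d, .e]
def cs7 : List (List OnL) := [[.c, .d, .b, .c, .b], [.c, .b, .a, .c, .e, .c, .d, .b, .c, .b]]
theorem g7_pow : eqK img (List.replicate 7 g7).flatten [] = true := by decide +kernel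
theorem g7_ne : eqK img g7 [] = false := by decide +kernel
theorem g7_ncl : eqK img (conjW g7 cs7) e1 = true := by decide +kernel

def g11 : List OnL := [.a, .b, .c, .b, .c, .d]
def cs11 : List (List OnL) := [[.a, .b, .c, .d, .e, .b, .c, .b, .c, .d, .a, .b, .c, .b], [.a, .b, .c, .d, .c, .e, .d, .c, .b, .e, .a, .b, .c, .d, .e, .b, .c, .b, .c, .d, .a, .b, .c, .b]]
theorem g11_pow : eqK img (List.replicate 11 g11).flatten [] = true := by decide +kernel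
theorem g11_ne : eqK img g11 [] = false := by decide +kernel
theorem g11_ncl : eqK img (conjW g11 cs11) e1 = true := by decide +kernel

def g19 : List OnL := [.a, .b, .c, .d, .e]
def cs19 : List (List OnL) := [[.b, .c, .b, .c, .d, .a, .b, .c, .a, .b], [.b, .c, .e, .b, .c, .b, .c, .d, .a, .b, .c, .a, .b]]
theorem g19_pow : eqK img (List.replicate 19 g19).flatten [] = true := by decide +kernel
theorem g19_ne : eqK img g19 [] = false := by decide +kernel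
theorem g19_ncl : eqK img (conjW g19 cs19) e1 = true := by decide +kernel

def t2_certs : List (List OnL × List (List OnL)) := [
  ([.e], [[.d, .e, .d, .e, .c, .d, .b, .c, .b, .c, .a, .b]]),
  ([.a], [[]]),
  ([.c], [[.b, .c, .b, .c, .a, .b]]),
  ([.c, .e], [[.d, .e, .c, .d, .e, .d, .b, .c, .a, .b, .c, .b]]),
  ([.a, .c], [[.b, .c, .a, .b, .c, .b]]),
  ([.a, .e], [[.d, .e, .d, .e, .c, .d, .b, .c, .a, .b, .c, .b]]),
  ([.a, .c, .e], [[.d, .e, .c, .d, .e, .d, .b, .c, .b, .c, .a, .b]])]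
def t2_sigs : List (List ℕ) := [
  [0, 1, 113129],
  [88668, 35161, 38626],
  [83014, 2255, 106024],
  [80554, 69779, 36962],
  [82507, 64522, 79251],
  [3314, 21542, 23413],
  [95830, 37351, 71011],
  [117417, 79522, 91087]]
theorem t2_len : t2_sigs.length = 8 := by decide
theorem t2_sig : ([] :: t2_certs.map Prod.fst).map (fun w => sg (w.flatMap img)) = t2_sigs := by
  decide +kernel
theorem t2_nd : t2_sigs.Nodup := by decide +kernel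

def t2_mul_c0 : List (List OnL) := [
  [],
  [.e],
  [.a],
  [.c]]
theorem t2_mul_c0_ok : t2_mul_c0.all (fun w1 => ([] :: t2_certs.map Prod.fst).all
    (fun w2 => decide (sg2 (w1.flatMap img) (w2.flatMap img) ∈ t2_sigs))) = true := by decide +kernel
def t2_mul_c1 : List (List OnL) := [
  [.c, .e],
  [.a, .c],
  [.a, .e],
  [.a, .c, .e]]
theorem t2_mul_c1_ok : t2_mul_c1.all (fun w1 => ([] :: t2_certs.map Prod.fst).all
    (fun w2 => decide (sg2 (w1.flatMap img) (w2.flatMap img) ∈ t2_sigs))) = true := by decide +kernel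
theorem t2_mul : ([] :: t2_certs.map Prod.fst).all (fun w1 => ([] :: t2_certs.map Prod.fst).all
    (fun w2 => decide (sg2 (w1.flatMap img) (w2.flatMap img) ∈ t2_sigs))) = true :=
  all_append_true _ _ _ t2_mul_c0_ok
    (t2_mul_c1_ok)

def t2_ncl_c0 : List (List OnL × List (List OnL)) := [
  ([.e], [[.d, .e, .d, .e, .c, .d, .b, .c, .b, .c, .a, .b]]),
  ([.a], [[]]),
  ([.c], [[.b, .c, .b, .c, .a, .b]])]
theorem t2_ncl_c0_ok : t2_ncl_c0.all (fun t => eqK img (conjW t.1 t.2) e1) = true := by decide +kernel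
def t2_ncl_c1 : List (List OnL × List (List OnL)) := [
  ([.c, .e], [[.d, .e, .c, .d, .e, .d, .b, .c, .a, .b, .c, .b]]),
  ([.a, .c], [[.b, .c, .a, .b, .c, .b]])]
theorem t2_ncl_c1_ok : t2_ncl_c1.all (fun t => eqK img (conjW t.1 t.2) e1) = true := by decide +kernel
def t2_ncl_c2 : List (List OnL × List (List OnL)) := [
  ([.a, .e], [[.d, .e, .d, .e, .c, .d, .b, .c, .a, .b, .c, .b]]),
  ([.a, .c, .e], [[.d, .e, .c, .d, .e, .d, .b, .c, .b, .c, .a, .b]])]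
theorem t2_ncl_c2_ok : t2_ncl_c2.all (fun t => eqK img (conjW t.1 t.2) e1) = true := by decide +kernel
theorem t2_ncl : (t2_certs).all (fun t => eqK img (conjW t.1 t.2) e1) = true :=
  all_append_true _ _ _ t2_ncl_c0_ok
    (all_append_true _ _ _ t2_ncl_c1_ok
    (t2_ncl_c2_ok))

end Cfsg.Agent.H94.S460.J
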